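/-
The automorphisms of `p`-power order of a centric subgroup of a weakly normal subsystem extend
trivially to the centralizer.
-/
import Cfsg.Agent.FusionLayer.ExtensionCondition
import Cfsg.Agent.Fusion.PrimeToPIndex

set_option autoImplicit false

namespace CfsgLib.FusionLayer

open Cfsg Cfsg.FusionSystem CfsgLib.Fusion

variable {Ω : Type*} [Group Ω] {S T : Subgroup Ω} {F : FusionSystem S} {E : FusionSystem T}
  {p : ℕ}

/-- The inner automorphisms coming from the strongly closed subgroup extend trivially. -/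
theorem trivialExt_conj_of_mem [Finite S] (hT : F.StronglyClosed T) {U : Subgroup Ω} (hUT : U ≤ T)
    (hUc : centralizerIn T U ≤ U) {t : Ω} (ht : t ∈ T)
    (htN : t ∈ Subgroup.normalizer (U : Set Ω)) :
    TrivialExt F U (U.normalizerMonoidHom ⟨t, htN⟩) := by
  have hTS := hT.1
  have hUS := hUT.trans hTS
  have := finite_of_le (sup_le hUS (centralizerIn_le S U))
  have hWn : t ∈ Subgroup.normalizer ((U ⊔ centralizerIn S U : Subgroup Ω) : Set Ω) := by
    refine SatCriterion.mem_normalizer_of_finite ?_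
    suffices h : U ⊔ centralizerIn S U ≤
        (U ⊔ centralizerIn S U).comap (MulAut.conj t).toMonoidHom from fun x hx => h hx
    refine sup_le (fun x hx => Subgroup.mem_sup_left ((Subgroup.mem_normalizer_iff.1 htN x).1 hx))
      fun x hx => Subgroup.mem_sup_right ?_
    refine mem_centralizerIn'.2 ⟨mul_mem (mul_mem (hTS ht) hx.1) (inv_mem (hTS ht)),
      fun u hu => ?_⟩
    show t * x * t⁻¹ * u * (t * x * t⁻¹)⁻¹ = u
    have h1 := (mem_centralizerIn'.1 hx).2 _ ((Subgroup.mem_normalizer_iff''.1 htN u).1 hu)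
    calc t * x * t⁻¹ * u * (t * x * t⁻¹)⁻¹ = t * (x * (t⁻¹ * u * t) * x⁻¹) * t⁻¹ := by group
      _ = u := by rw [h1]; group
  refine ⟨(U ⊔ centralizerIn S U).normalizerMonoidHom ⟨t, hWn⟩,
    autInducedBy_le_autGroup (sup_le hUS (centralizerIn_le S U))
      (mem_autInducedBy_iff.2 ⟨t, hTS ht, hWn, fun _ => rfl⟩), fun x => rfl, fun c hc => ?_⟩
  show (c : Ω)⁻¹ * (t * c * t⁻¹) ∈ _
  have h1 : (c : Ω)⁻¹ * (t * c * t⁻¹) ∈ T := by
    rw [show (c : Ω)⁻¹ * (t * c * t⁻¹) = ((c : Ω)⁻¹ * t * c) * t⁻¹ by group]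
    refine mul_mem ?_ (inv_mem ht)
    have := FusionFactor.conj_mem_of_stronglyClosed hT (inv_mem hc.1) ht
    rwa [inv_inv] at this
  have h2 : (c : Ω)⁻¹ * (t * c * t⁻¹) ∈ Subgroup.centralizer (U : Set Ω) := by
    refine mul_mem (inv_mem hc.2) (Subgroup.mem_centralizer_iff.2 fun u hu => ?_)
    have h3 := Subgroup.mem_centralizer_iff.1 hc.2 _
      ((Subgroup.mem_normalizer_iff''.1 htN u).1 hu)
    calc u * (t * c * t⁻¹) = t * ((t⁻¹ * u * t) * c) * t⁻¹ := by group
      _ = t * (c * (t⁻¹ * u * t)) * t⁻¹ := by rw [h3]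
      _ = t * c * t⁻¹ * u := by group
  exact ⟨hUc ⟨h1, h2⟩, h2⟩

/-- Trivial extensions are stable under conjugation in the automizer of a receptive subgroup. -/
theorem TrivialExt.conj [Finite S] {U : Subgroup Ω} (hU : F.IsReceptive U) {k g : MulAut U}
    (hk : k ∈ F.autGroup U) (hg : TrivialExt F U g) : TrivialExt F U (k * g * k⁻¹) := by
  obtain ⟨β, hβ, hβ1, hβ2⟩ := hg
  have hUS := hU.1
  obtain ⟨h, hh, hh1, -⟩ := exists_ext_centralizer hU hk
  have := finite_of_le (sup_le hUS (centralizerIn_le S U))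
  have hinv' : ∀ x : U, h⁻¹ (Subgroup.inclusion le_sup_left x) =
      Subgroup.inclusion le_sup_left (k⁻¹ x) := fun x => by
    conv_lhs => rw [← MulAut.apply_inv_self _ k x]
    rw [show Subgroup.inclusion le_sup_left (k (k⁻¹ x)) =
      h (Subgroup.inclusion le_sup_left (k⁻¹ x)) from Subtype.ext (hh1 _).symm]
    exact MulAut.inv_apply_self ..
  refine ⟨h * β * h⁻¹, mul_mem (mul_mem hh hβ) (inv_mem hh), fun x => ?_, fun c hc => ?_⟩
  · show (h (β (h⁻¹ _)) : Ω) = ((k * g * k⁻¹) x : Ω)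
    rw [hinv', show β (Subgroup.inclusion le_sup_left (k⁻¹ x)) =
      Subgroup.inclusion le_sup_left (g (k⁻¹ x)) from Subtype.ext (hβ1 _), hh1]
    rfl
  · show (c : Ω)⁻¹ * (h (β (h⁻¹ c)) : Ω) ∈ _
    obtain ⟨d₀, hd₀, hd₀C⟩ : ∃ d₀, h d₀ = c ∧ (d₀ : Ω) ∈ centralizerIn S U := by
      refine ⟨h⁻¹ c, MulAut.apply_inv_self .., mem_centralizerIn'.2
        ⟨sup_le hUS (centralizerIn_le S U) (h⁻¹ c).2, fun u hu => ?_⟩⟩
      have e1 : h⁻¹ (c * Subgroup.inclusion le_sup_left (k ⟨u, hu⟩) * c⁻¹) =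
          h⁻¹ (Subgroup.inclusion le_sup_left (k ⟨u, hu⟩)) :=
        congrArg _ (Subtype.ext ((mem_centralizerIn'.1 hc).2 _ (k ⟨u, hu⟩).2))
      rw [map_mul, map_mul, map_inv, hinv', MulAut.inv_apply_self] at e1
      exact congrArg Subtype.val e1
    rw [← hd₀, MulAut.inv_apply_self]
    have hz := hβ2 d₀ hd₀C
    let z : U := ⟨_, hz.1⟩
    rw [show β d₀ = d₀ * Subgroup.inclusion le_sup_left z from
      Subtype.ext (mul_inv_cancel_left _ _).symm, map_mul, Subgroup.coe_mul, inv_mul_cancel_left,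
      hh1]
    refine ⟨Subtype.mem _, Subgroup.mem_centralizer_iff.2 fun u hu => ?_⟩
    obtain ⟨w, hw⟩ := k.surjective ⟨u, hu⟩
    rw [← show (k w : Ω) = u from congrArg Subtype.val hw, ← Subgroup.coe_mul,
      ← Subgroup.coe_mul, ← map_mul, ← map_mul]
    exact congrArg (fun v : U => (k v : Ω))
      (Subtype.ext (Subgroup.mem_centralizer_iff.1 hz.2 w w.2))

/-- An automorphism of `p`-power order of a centric subgroup of a weakly normal subsystem extends
trivially to the centralizer. -/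
theorem trivialExt_of_pPower [Finite S] [Fact p.Prime] (hS : IsPGroup p S)
    (hn : E.IsWeaklyNormalIn F p) {U : Subgroup Ω} (hU : E.IsCentric U) {a : MulAut U}
    (ha : a ∈ E.autGroup U) {k : ℕ} (hk : a ^ p ^ k = 1) : TrivialExt F U a := by
  obtain ⟨hE, hF, hinv⟩ := hn
  have hT := hinv.2.1
  have hTS := hT.1
  have := finite_of_le hTS
  have hUS := hU.1.trans hTS
  have := finite_of_le hUS
  obtain ⟨U', hc, hU'F⟩ := exists_fullyNormalized (F := F) hUS
  obtain ⟨hU'a, hU'r⟩ := automized_receptive hS hF hU'F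
  obtain ⟨ψ, hψ, -, hψU⟩ := exists_map_normalizerIn hS hU'a hU'r hc
  have hUN : U ≤ normalizerIn S U := le_normalizerIn hUS
  obtain ⟨e, he, hev⟩ := exists_iso (restrict_mem hψ hUN) ((range_restrictHom ψ hUN).trans hψU)
  have hU'T : U' ≤ T := by
    rw [← hψU]
    rintro _ ⟨x, hx, rfl⟩
    exact stronglyClosed_apply hT hψ (hU.1 hx)
  have hU'c : E.IsCentric U' := isCentric_of_isConj_big hinv hU hU'T he.isConj
  refine TrivialExt.transport hUS hψ hψU (e := e) (fun x => hev x) ?_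
  have ha' : MulAut.congr e a ∈ E.autGroup U' :=
    congr_mem_of_invariant (strongInvariant_of_invariant hinv) hU.1 hU'T he ha
  have hU'n := isFullyNormalized_of_big hS hF hinv.1 hT hU'T hU'F
  obtain ⟨γ, hγ, hγc⟩ := exists_conj_autInducedBy
    (automized_receptive (hS.to_le hTS) hE hU'n).1
    (X := Subgroup.zpowers (MulAut.congr e a)) (Subgroup.zpowers_le.2 ha')
    (isPGroup_zpowers_of_pow_eq_one (k := k) (by rw [← map_pow, hk, map_one]))
  obtain ⟨t, ht, htN, htv⟩ := mem_autInducedBy_iff.1 (hγc _ (Subgroup.mem_zpowers _))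
  have hγF : γ⁻¹ ∈ F.autGroup U' :=
    inv_mem (IsIso.mem_autGroup (hinv.1 _ ((mem_autGroup_iff hU'T).1 hγ)))
  have h := (trivialExt_conj_of_mem hT hU'T (centralizerIn_le_of_centric hU'c) ht htN).conj hU'r hγF
  rw [← show γ * MulAut.congr e a * γ⁻¹ = U'.normalizerMonoidHom ⟨t, htN⟩ from
    MulEquiv.ext fun x => Subtype.ext (htv x)] at h
  convert h using 1
  group

/-- The automorphisms of `p`-power order generate automorphisms extending trivially. -/
theorem trivialExt_of_pGen [Finite S] [Fact p.Prime] (hS : IsPGroup p S)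
    (hn : E.IsWeaklyNormalIn F p) {U : Subgroup Ω} (hU : E.IsCentric U) {a : MulAut U}
    (ha : a ∈ (CfsgLib.PrimeToPIndex.pGen p E U).map (E.autGroup U).subtype) :
    TrivialExt F U a := by
  suffices h : (CfsgLib.PrimeToPIndex.pGen p E U).map (E.autGroup U).subtype ≤
      trivialExtGroup F (hU.1.trans hn.2.2.2.1.1) from h ha
  rw [MonoidHom.map_closure, Subgroup.closure_le]
  rintro _ ⟨b, ⟨k, hk⟩, rfl⟩
  refine trivialExt_of_pPower hS hn hU b.2 (k := k) ?_
  rw [← map_pow, ← hk, pow_orderOf_eq_one, map_one]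

end CfsgLib.FusionLayer
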