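/-
Automorphisms of `Q C_S(T)` fixing a centric `Q` have `p`-power multiples extending to `T C_S(T)`
fixing `T`.
-/
import Cfsg.Agent.FusionLayer.Residual.TrivialExt

set_option autoImplicit false

namespace CfsgLib.FusionLayer

open Cfsg Cfsg.FusionSystem CfsgLib.Fusion

variable {Ω : Type*} [Group Ω] {S T : Subgroup Ω} {F : FusionSystem S} {E : FusionSystem T}
  {p : ℕ}

/-- Elements of a product with a normalizing subgroup. -/
theorem exists_mul_of_mem_sup {Q C : Subgroup Ω} (h : C ≤ Subgroup.normalizer (Q : Set Ω)) {z : Ω}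
    (hz : z ∈ Q ⊔ C) : ∃ q ∈ Q, ∃ c ∈ C, q * c = z := by
  have hz' : z ∈ ((Q ⊔ C : Subgroup Ω) : Set Ω) := hz
  rw [Subgroup.coe_mul_of_right_le_normalizer_left _ _ h] at hz'
  exact hz'

theorem centralizer_le_normalizer {Q : Subgroup Ω} (hQT : Q ≤ T) :
    centralizerIn S T ≤ Subgroup.normalizer (Q : Set Ω) :=
  ((centralizerIn_anti hQT).trans (centralizerIn_le_normalizerIn S Q)).trans inf_le_right

/-- Elements of `T` normalizing `Q` act trivially on `Q C_S(T)` modulo `Q`. -/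
theorem inv_mul_conj_mem {Q : Subgroup Ω} (hQT : Q ≤ T) {n : Ω} (hn : n ∈ T)
    (hnQ : n ∈ Subgroup.normalizer (Q : Set Ω)) {w : Ω} (hw : w ∈ Q ⊔ centralizerIn S T) :
    w⁻¹ * (n * w * n⁻¹) ∈ Q := by
  obtain ⟨q, hq, c, hc, rfl⟩ := exists_mul_of_mem_sup (centralizer_le_normalizer hQT) hw
  have hcn : n * c = c * n := (Subgroup.mem_centralizer_iff.1 hc.2 n hn)
  have e : (q * c)⁻¹ * (n * (q * c) * n⁻¹) = c⁻¹ * (q⁻¹ * (n * q * n⁻¹)) * c :=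
    calc (q * c)⁻¹ * (n * (q * c) * n⁻¹) =
        c⁻¹ * (q⁻¹ * (n * q * n⁻¹)) * ((n * c) * n⁻¹) := by group
      _ = c⁻¹ * (q⁻¹ * (n * q * n⁻¹)) * ((c * n) * n⁻¹) := by rw [hcn]
      _ = _ := by group
  rw [e]
  exact (Subgroup.mem_normalizer_iff''.1 (centralizer_le_normalizer hQT hc) _).1
    (mul_mem (inv_mem hq) ((Subgroup.mem_normalizer_iff.1 hnQ _).1 hq))

/-- The automorphisms acting trivially modulo `Q` and on `Q` as an element of `N`. -/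
def stabMod (F : FusionSystem S) (Q W N : Subgroup Ω) (hQ : N ≤ Subgroup.normalizer (Q : Set Ω)) :
    Subgroup (MulAut W) where
  carrier := {k | k ∈ F.autGroup W ∧ (∀ w : W, (w : Ω)⁻¹ * (k w : Ω) ∈ Q) ∧
    ∃ n ∈ N, ∀ w : W, (w : Ω) ∈ Q → (k w : Ω) = n * w * n⁻¹}
  one_mem' := ⟨one_mem _, fun w => by
      show (w : Ω)⁻¹ * (w : Ω) ∈ Q
      rw [inv_mul_cancel]; exact one_mem _,
    1, one_mem _, fun w _ => by simp⟩
  mul_mem' := by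
    rintro a b ⟨ha, had, n, hn, hav⟩ ⟨hb, hbd, m, hm, hbv⟩
    refine ⟨mul_mem ha hb, fun w => ?_, n * m, mul_mem hn hm, fun w hw => ?_⟩
    · have := mul_mem (hbd w) (had (b w))
      rwa [mul_assoc, mul_inv_cancel_left] at this
    · have hbQ : (b w : Ω) ∈ Q := by
        rw [hbv w hw]
        exact (Subgroup.mem_normalizer_iff.1 (hQ hm) _).1 hw
      show (a (b w) : Ω) = _
      rw [hav _ hbQ, hbv w hw]
      group
  inv_mem' := by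
    rintro a ⟨ha, had, n, hn, hav⟩
    have hd : ∀ w : W, (w : Ω)⁻¹ * ((a⁻¹ w : W) : Ω) ∈ Q := fun w => by
      have := inv_mem (had (a⁻¹ w))
      rwa [MulAut.apply_inv_self, mul_inv_rev, inv_inv] at this
    refine ⟨Subgroup.inv_mem _ ha, hd, n⁻¹, inv_mem hn, fun w hw => ?_⟩
    have hvQ : ((a⁻¹ w : W) : Ω) ∈ Q := by
      rw [← mul_inv_cancel_left (w : Ω) ((a⁻¹ w : W) : Ω)]
      exact mul_mem hw (hd w)
    have := hav _ hvQ
    rw [MulAut.apply_inv_self] at this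
    rw [this]
    group

theorem isPGroup_stabMod [Fact p.Prime] {Q W N : Subgroup Ω} [Finite Q] [Finite N]
    (hQp : IsPGroup p Q) (hNp : IsPGroup p N) (hQ : N ≤ Subgroup.normalizer (Q : Set Ω)) :
    IsPGroup p (stabMod F Q W N hQ) := by
  rintro ⟨k, -, hkd, n, hn, hkv⟩
  obtain ⟨i, hi⟩ := hQp.exists_card_eq
  obtain ⟨m, hm⟩ := hNp ⟨n, hn⟩
  have hkQ : ∀ w : W, (w : Ω) ∈ Q → (k w : Ω) ∈ Q := fun w hw => by
    rw [← mul_inv_cancel_left (w : Ω) (k w : Ω)]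
    exact mul_mem hw (hkd w)
  have hpow : ∀ j : ℕ, (∀ w : W, (w : Ω)⁻¹ * ((k ^ j) w : Ω) ∈ Q) ∧
      ∀ w : W, (w : Ω) ∈ Q → ((k ^ j) w : Ω) = n ^ j * w * (n ^ j)⁻¹ := by
    intro j
    induction j with
    | zero => exact ⟨fun w => by simp, fun w _ => by simp⟩
    | succ j ih =>
      refine ⟨fun w => ?_, fun w hw => ?_⟩
      · have := mul_mem (hkd w) (ih.1 (k w))
        rw [mul_assoc, mul_inv_cancel_left] at this
        rw [pow_succ, MulAut.mul_apply]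
        exact this
      · rw [pow_succ, MulAut.mul_apply, ih.2 _ (hkQ w hw), hkv w hw, pow_succ]
        group
  have hfix : ∀ w : W, (w : Ω) ∈ Q → (k ^ p ^ m) w = w := fun w hw => by
    refine Subtype.ext ((hpow _).2 w hw |>.trans ?_)
    rw [show n ^ p ^ m = 1 from congrArg Subtype.val hm]
    simp
  refine ⟨m + i, Subtype.ext ?_⟩
  show k ^ p ^ (m + i) = 1
  rw [pow_add, pow_mul]
  refine pow_eq_one_of_displacement (fun w => hfix _ ((hpow (p ^ m)).1 w)) fun w => ?_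
  have h : (⟨_, (hpow (p ^ m)).1 w⟩ : Q) ^ Nat.card Q = 1 := pow_card_eq_one'
  rw [hi] at h
  exact Subtype.ext (congrArg Subtype.val h :)

/-- One step: extension to the normalizer. -/
theorem exists_fix_ext_step [Finite S] [Fact p.Prime] (hS : IsPGroup p S) (hF : F.IsSaturated p)
    (hinv : E.IsInvariantIn F) {Q : Subgroup Ω} (hQ : E.IsCentric Q)
    {δ : MulAut ↥(Q ⊔ centralizerIn S T)} (hδ : δ ∈ F.autGroup (Q ⊔ centralizerIn S T))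
    (hfix : ∀ x : ↥(Q ⊔ centralizerIn S T), (x : Ω) ∈ Q → δ x = x) :
    ∃ δ' ∈ F.autGroup (normalizerIn T Q ⊔ centralizerIn S T),
      (∀ x : ↥(normalizerIn T Q ⊔ centralizerIn S T), (x : Ω) ∈ normalizerIn T Q → δ' x = x) ∧
      ∀ (w : ↥(Q ⊔ centralizerIn S T)) (hw : (w : Ω) ∈ normalizerIn T Q ⊔ centralizerIn S T),
        (δ' ⟨w, hw⟩ : Ω) = ((δ ^ Nat.card Q) w : Ω) := by
  obtain ⟨C, hCdef⟩ : ∃ C, C = centralizerIn S T := ⟨_, rfl⟩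
  revert δ
  rw [← hCdef]
  intro δ hδ hfix
  have hT := hinv.2.1
  have hTS := hT.1
  have hTp : IsPGroup p T := hS.to_le hTS
  have := finite_of_le hTS
  have hQT := hQ.1
  obtain ⟨N, hNdef⟩ : ∃ N, N = normalizerIn T Q := ⟨_, rfl⟩
  rw [← hNdef]
  have hNT : N ≤ T := hNdef ▸ normalizerIn_le T Q
  have hQN : Q ≤ N := hNdef ▸ le_normalizerIn hQT
  have hNQ : N ≤ Subgroup.normalizer (Q : Set Ω) := hNdef ▸ inf_le_right
  have hCS : C ≤ S := hCdef ▸ centralizerIn_le S T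
  have hWS : Q ⊔ C ≤ S := sup_le (hQT.trans hTS) hCS
  have hW'S : N ⊔ C ≤ S := sup_le (hNT.trans hTS) hCS
  have hWW' : Q ⊔ C ≤ N ⊔ C := sup_le_sup_right hQN C
  have := finite_of_le hWS
  have := finite_of_le hW'S
  have := finite_of_le (hQT.trans hTS)
  have := finite_of_le (hNT.trans hTS)
  have hdisp : ∀ n ∈ N, ∀ w ∈ Q ⊔ C, w⁻¹ * (n * w * n⁻¹) ∈ Q := fun n hn w hw =>
    inv_mul_conj_mem hQT (hNT hn) (hNQ hn) (hCdef ▸ hw)
  have hnW : ∀ n ∈ N, n ∈ Subgroup.normalizer ((Q ⊔ C : Subgroup Ω) : Set Ω) := fun n hn => by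
    refine SatCriterion.mem_normalizer_of_finite fun w hw => ?_
    rw [← mul_inv_cancel_left w (n * w * n⁻¹)]
    exact mul_mem hw (Subgroup.mem_sup_left (hdisp n hn w hw))
  let X : Subgroup (MulAut ↥(Q ⊔ C)) := stabMod F Q (Q ⊔ C) N hNQ
  obtain ⟨V₀, hconj, hV₀⟩ := exists_fullyNormalized (F := F) hWS
  obtain ⟨V, θ, hθ, hVr, hc⟩ := SatCriterion.exists_iso_sylow (p := p)
    ⟨V₀, hconj, automized_receptive hS hF hV₀⟩ (X := X) (fun k hk => hk.1)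
    (isPGroup_stabMod (hTp.to_le hQT) (hTp.to_le hNT) hNQ)
  let ρ : ∀ n, n ∈ N → MulAut ↥(Q ⊔ C) := fun n hn =>
    (Q ⊔ C).normalizerMonoidHom ⟨n, hnW n hn⟩
  have hρF : ∀ n (hn : n ∈ N), ρ n hn ∈ F.autGroup (Q ⊔ C) := fun n hn =>
    autInducedBy_le_autGroup hWS
      (mem_autInducedBy_iff.2 ⟨n, hTS (hNT hn), hnW n hn, fun _ => rfl⟩)
  have hρX : ∀ n (hn : n ∈ N), ρ n hn ∈ X := fun n hn =>
    ⟨hρF n hn, fun w => hdisp n hn w w.2, n, hn, fun w _ => rfl⟩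
  have hfix' : ∀ x : ↥(Q ⊔ C), (x : Ω) ∈ Q → δ⁻¹ x = x := fun x hx => by
    conv_lhs => rw [← hfix x hx]
    exact MulAut.inv_apply_self ..
  have hδρX : ∀ n (hn : n ∈ N), δ * ρ n hn * δ⁻¹ ∈ X := by
    intro n hn
    refine ⟨mul_mem (mul_mem hδ (hρF n hn)) (Subgroup.inv_mem _ hδ), fun w => ?_, n, hn,
      fun w hw => ?_⟩
    · show (w : Ω)⁻¹ * (δ (ρ n hn (δ⁻¹ w)) : Ω) ∈ Q
      let q : ↥(Q ⊔ C) := (δ⁻¹ w)⁻¹ * ρ n hn (δ⁻¹ w)
      have hq : (q : Ω) ∈ Q := hdisp n hn _ (δ⁻¹ w).2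
      rw [show ρ n hn (δ⁻¹ w) = δ⁻¹ w * q from (mul_inv_cancel_left _ _).symm, map_mul,
        MulAut.apply_inv_self, hfix q hq, Subgroup.coe_mul, inv_mul_cancel_left]
      exact hq
    · show (δ (ρ n hn (δ⁻¹ w)) : Ω) = _
      rw [hfix' w hw, hfix _ (show ((ρ n hn w : ↥(Q ⊔ C)) : Ω) ∈ Q from
        (Subgroup.mem_normalizer_iff.1 (hNQ hn) _).1 hw)]
      rfl
  have hδI := (mem_autGroup_iff hWS).1 hδ
  obtain ⟨ψ₁, hψ₁, hψ₁v⟩ := exists_extension (T := N ⊔ C) hVr hθ (sup_le (fun n hn =>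
    mem_extender_of_congr ⟨hTS (hNT hn), hnW n hn⟩ (α := ρ n hn) (fun _ => rfl)
      (hc _ (hρX n hn)))
    (le_sup_right.trans (le_extender hWS (F.le_of_mem hθ).2)))
  have hδθ : IsIso F (δ.trans θ) := hδI.trans hθ
  obtain ⟨ψ₂, hψ₂, hψ₂v⟩ := exists_extension (T := N ⊔ C) hVr hδθ (sup_le (fun n hn =>
    mem_extender_of_congr ⟨hTS (hNT hn), hnW n hn⟩ (α := ρ n hn) (fun _ => rfl) (by
      rw [congr_trans, congr_self_eq]
      exact hc _ (hδρX n hn)))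
    (le_sup_right.trans (le_extender hWS (F.le_of_mem hδθ).2)))
  obtain ⟨Q₁, hQ₁def⟩ : ∃ Q₁, Q₁ = imgHom (V.subtype.comp θ.toMonoidHom) Q := ⟨_, rfl⟩
  have hQ₁T : Q₁ ≤ T := by
    rw [hQ₁def]
    rintro _ ⟨x, hx, rfl⟩
    exact stronglyClosed_apply hT hθ (hQT hx)
  have hQ₁c : E.IsCentric Q₁ := isCentric_of_isConj_big hinv hQ hQ₁T
    (hQ₁def ▸ isConj_restrict hθ le_sup_left)
  have hψ₂W : ∀ (w : ↥(Q ⊔ C)) (hw : (w : Ω) ∈ N ⊔ C),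
      ψ₂ ⟨w, hw⟩ = ψ₁ ⟨(δ w : Ω), hWW' (δ w).2⟩ := fun w hw => by
    rw [hψ₂v w hw, hψ₁v (δ w) (hWW' (δ w).2)]
    rfl
  have hrel : ∀ n (hn : n ∈ N), ∃ q ∈ Q, ∃ h : n * q ∈ N ⊔ C,
      ψ₂ ⟨n, Subgroup.mem_sup_left hn⟩ = ψ₁ ⟨n * q, h⟩ := by
    intro n hn
    obtain ⟨z, hzdef⟩ : ∃ z, z = (ψ₁ ⟨n, Subgroup.mem_sup_left hn⟩)⁻¹ *
        ψ₂ ⟨n, Subgroup.mem_sup_left hn⟩ := ⟨_, rfl⟩
    have hz : z ∈ centralizerIn T Q₁ := by
      refine mem_centralizerIn'.2 ⟨hzdef ▸ mul_mem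
        (inv_mem (stronglyClosed_apply hT hψ₁ (hNT hn))) (stronglyClosed_apply hT hψ₂ (hNT hn)), ?_⟩
      rw [hQ₁def]
      rintro _ ⟨x, hx, rfl⟩
      let m : ↥(N ⊔ C) := ⟨n, Subgroup.mem_sup_left hn⟩
      let x' : ↥(N ⊔ C) := ⟨x, hWW' x.2⟩
      have hy : n * (x : Ω) * n⁻¹ ∈ Q := (Subgroup.mem_normalizer_iff.1 (hNQ hn) _).1 hx
      let y : ↥(Q ⊔ C) := ⟨_, Subgroup.mem_sup_left hy⟩
      have e1 : ψ₁ m * ψ₁ x' * (ψ₁ m)⁻¹ = θ y := by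
        rw [← map_inv, ← map_mul, ← map_mul]
        exact hψ₁v y (hWW' y.2)
      have e2 : ψ₂ m * ψ₁ x' * (ψ₂ m)⁻¹ = θ y := by
        have e : ψ₁ x' = ψ₂ x' := by
          rw [hψ₁v x _, hψ₂v x _]
          exact congrArg (fun v => (θ v : Ω)) (hfix x hx).symm
        rw [e, ← map_inv, ← map_mul, ← map_mul]
        refine (hψ₂v y (hWW' y.2)).trans ?_
        exact congrArg (fun v => (θ v : Ω)) (hfix y hy)
      have e3 : (θ x : Ω) = ψ₁ x' := (hψ₁v x _).symm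
      show z * (θ x : Ω) * z⁻¹ = (θ x : Ω)
      rw [e3, hzdef]
      calc (ψ₁ m)⁻¹ * ψ₂ m * ψ₁ x' * ((ψ₁ m)⁻¹ * ψ₂ m)⁻¹ =
          (ψ₁ m)⁻¹ * (ψ₂ m * ψ₁ x' * (ψ₂ m)⁻¹) * ψ₁ m := by group
        _ = ψ₁ x' := by rw [e2, ← e1]; group
    have hz₁ := centralizerIn_le_of_centric hQ₁c hz
    rw [hQ₁def] at hz₁
    obtain ⟨q, hq, hqz⟩ := hz₁
    have hnq : n * (q : Ω) ∈ N ⊔ C := mul_mem (Subgroup.mem_sup_left hn) (hWW' q.2)
    refine ⟨q, hq, hnq, ?_⟩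
    rw [show (⟨n * (q : Ω), hnq⟩ : ↥(N ⊔ C)) =
      ⟨n, Subgroup.mem_sup_left hn⟩ * ⟨q, hWW' q.2⟩ from rfl, map_mul, hψ₁v q _,
      show ((θ q : V) : Ω) = z from hqz, hzdef, mul_inv_cancel_left]
  have hle : ∀ x : ↥(N ⊔ C), ψ₂ x ∈ ψ₁.range := by
    intro x
    have : N ⊔ C ≤ (ψ₁.range.comap ψ₂).map (Subgroup.subtype _) := by
      refine sup_le (fun n hn => ?_) (fun c hc => ?_)
      · obtain ⟨q, -, h, hv⟩ := hrel n hn
        exact ⟨⟨n, Subgroup.mem_sup_left hn⟩, ⟨_, hv.symm⟩, rfl⟩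
      · exact ⟨⟨c, Subgroup.mem_sup_right hc⟩, ⟨_, (hψ₂W ⟨c, Subgroup.mem_sup_right hc⟩
          (Subgroup.mem_sup_right hc)).symm⟩, rfl⟩
    obtain ⟨y, hy, hyx⟩ := this x.2
    obtain rfl : y = x := Subtype.ext hyx
    exact hy
  obtain ⟨ι, hι, hιv⟩ := F.inv_mem hψ₁
  have hcomp := F.comp_mem hψ₂ hι hle
  obtain ⟨δ₂, hδ₂, hδ₂v⟩ := exists_iso hcomp (Q := N ⊔ C) (by
    refine Subgroup.eq_of_le_of_card_ge ?_
      (by rw [← imgHom_self, card_imgHom (F.injective_of_mem hcomp) le_rfl])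
    rintro _ ⟨x, rfl⟩
    obtain ⟨y, hy⟩ := hle x
    show ι ⟨ψ₂ x, _⟩ ∈ _
    rw [show (⟨ψ₂ x, hle x⟩ : ψ₁.range) = ⟨ψ₁ y, y, rfl⟩ from Subtype.ext hy.symm, hιv y]
    exact y.2)
  have hδ₂eq : ∀ x y : ↥(N ⊔ C), ψ₂ x = ψ₁ y → δ₂ x = y := fun x y h => Subtype.ext <| by
    rw [hδ₂v]
    show ι ⟨ψ₂ x, _⟩ = _
    rw [show (⟨ψ₂ x, hle x⟩ : ψ₁.range) = ⟨ψ₁ y, y, rfl⟩ from Subtype.ext h, hιv y]
  have hag : ∀ w : ↥(Q ⊔ C),
      ((δ w : ↥(Q ⊔ C)) : Ω) = ((δ₂ : MulAut ↥(N ⊔ C)) (Subgroup.inclusion hWW' w) : Ω) := fun w =>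
    (congrArg Subtype.val (hδ₂eq (Subgroup.inclusion hWW' w) (Subgroup.inclusion hWW' (δ w))
      (hψ₂W w (hWW' w.2)))).symm
  refine ⟨(δ₂ : MulAut ↥(N ⊔ C)) ^ Nat.card Q, pow_mem hδ₂.mem_autGroup _, fun x hx => ?_,
    fun w hw => (pow_agree hWW' hag _ w).symm⟩
  obtain ⟨q, hq, h, hv⟩ := hrel x hx
  obtain ⟨q', hq'def⟩ : ∃ q' : ↥(N ⊔ C), q' = ⟨q, Subgroup.mem_sup_left (hQN hq)⟩ := ⟨_, rfl⟩
  have hxq : (δ₂ : MulAut ↥(N ⊔ C)) x = x * q' := by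
    rw [hq'def]; exact (hδ₂eq x ⟨(x : Ω) * q, h⟩ hv).trans rfl
  have hqfix : (δ₂ : MulAut ↥(N ⊔ C)) q' = q' := by
    refine Subtype.ext ?_
    rw [hq'def]
    refine (hag ⟨q, Subgroup.mem_sup_left hq⟩).symm.trans ?_
    rw [hfix _ hq]
  have hpow : ∀ j : ℕ, ((δ₂ : MulAut ↥(N ⊔ C)) ^ j) x = x * q' ^ j := by
    intro j
    induction j with
    | zero => simp
    | succ j ih => rw [pow_succ', MulAut.mul_apply, ih, map_mul, map_pow, hqfix, hxq, mul_assoc,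
        ← pow_succ']
  rw [hpow]
  have h1 : q' ^ Nat.card Q = 1 := by
    refine Subtype.ext ?_
    rw [SubgroupClass.coe_pow, hq'def]
    exact congrArg Subtype.val (pow_card_eq_one' (x := (⟨q, hq⟩ : Q)))
  rw [h1, mul_one]

/-- Some `p`-power multiple of an automorphism of `Q C_S(T)` fixing a centric `Q` extends to
`T C_S(T)` fixing `T`. -/
theorem exists_fix_ext [Finite S] [Fact p.Prime] (hS : IsPGroup p S) (hF : F.IsSaturated p)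
    (hinv : E.IsInvariantIn F) {Q : Subgroup Ω} (hQ : E.IsCentric Q)
    {δ : MulAut ↥(Q ⊔ centralizerIn S T)} (hδ : δ ∈ F.autGroup (Q ⊔ centralizerIn S T))
    (hfix : ∀ x : ↥(Q ⊔ centralizerIn S T), (x : Ω) ∈ Q → δ x = x) :
    ∃ j : ℕ, ∃ a ∈ F.autGroup (T ⊔ centralizerIn S T),
      (∀ x : ↥(T ⊔ centralizerIn S T), (x : Ω) ∈ T → a x = x) ∧
      ∀ (w : ↥(Q ⊔ centralizerIn S T)) (hw : (w : Ω) ∈ T ⊔ centralizerIn S T),
        (a ⟨w, hw⟩ : Ω) = ((δ ^ p ^ j) w : Ω) := by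
  have hT := hinv.2.1
  have := finite_of_le hT.1
  induction hd : Nat.card T - Nat.card Q using Nat.strong_induction_on generalizing Q with
  | _ d ih =>
  rcases hQ.1.eq_or_lt with rfl | hlt
  · exact ⟨0, δ, hδ, hfix, fun w hw => by rw [pow_zero, pow_one]⟩
  obtain ⟨δ', hδ', hfix', hag⟩ := exists_fix_ext_step hS hF hinv hQ hδ hfix
  have hlt' : Q < normalizerIn T Q := lt_normalizerIn (hS.to_le hT.1) hlt
  have hNT := normalizerIn_le T Q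
  have hlt₂ : Nat.card T - Nat.card (normalizerIn T Q) < d := by
    have h1 := card_lt_of_lt hlt' hNT
    have h2 := Subgroup.card_le_of_le hNT
    omega
  obtain ⟨j, a, ha, hafix, hav⟩ := ih _ hlt₂ (isCentric_of_le hQ hlt'.le hNT) hδ' hfix' rfl
  have := finite_of_le hQ.1
  obtain ⟨i, hi⟩ := (hS.to_le (hQ.1.trans hT.1)).exists_card_eq
  refine ⟨i + j, a, ha, hafix, fun w hw => ?_⟩
  have hw' : (w : Ω) ∈ normalizerIn T Q ⊔ centralizerIn S T :=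
    sup_le_sup_right hlt'.le _ w.2
  rw [hav ⟨w, hw'⟩ hw]
  have hagree := pow_agree (b := δ ^ Nat.card Q) (a := δ') (sup_le_sup_right hlt'.le _)
    (fun v => (hag v (sup_le_sup_right hlt'.le _ v.2)).symm) (p ^ j) w
  rw [pow_add, pow_mul, ← hi]
  exact hagree.symm

end CfsgLib.FusionLayer
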