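/-
An automorphism of `T` whose restriction to a centric subgroup extends trivially to `C_S(T)`
extends trivially itself.
-/
import Cfsg.Agent.FusionLayer.Residual.Fix
import Cfsg.Agent.FusionLayer.Constrained

set_option autoImplicit false

namespace CfsgLib.FusionLayer

open Cfsg Cfsg.FusionSystem CfsgLib.Fusion

variable {Ω : Type*} [Group Ω] {S T : Subgroup Ω} {F : FusionSystem S} {E : FusionSystem T}
  {p : ℕ}

/-- A trivially acting extension moves `C_S(T)` within the image of the source. -/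
theorem disp_mem_range {P : Subgroup Ω} (hPT : P ≤ T) {φ : P →* Ω} (hφT : φ.range ≤ T)
    (hc : centralizerIn T φ.range ≤ φ.range) {χ : ↥(P ⊔ centralizerIn S T) →* Ω}
    (hχv : ∀ x : P, χ (Subgroup.inclusion le_sup_left x) = φ x)
    (hχC : ∀ x : ↥(P ⊔ centralizerIn S T), (x : Ω) ∈ centralizerIn S T → (x : Ω)⁻¹ * χ x ∈ T)
    (x : ↥(P ⊔ centralizerIn S T)) (hx : (x : Ω) ∈ centralizerIn S T) :
    (x : Ω)⁻¹ * χ x ∈ φ.range := by
  refine hc (mem_centralizerIn'.2 ⟨hχC x hx, ?_⟩)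
  rintro _ ⟨y, rfl⟩
  have hxy : (x : Ω) * (φ y) * (x : Ω)⁻¹ = φ y :=
    (mem_centralizerIn'.1 hx).2 _ (hφT ⟨y, rfl⟩)
  have e1 : χ x * φ y * (χ x)⁻¹ = φ y := by
    rw [← hχv y, ← map_inv, ← map_mul, ← map_mul]
    exact congrArg χ (Subtype.ext ((mem_centralizerIn'.1 hx).2 _ (hPT y.2)))
  calc (x : Ω)⁻¹ * χ x * φ y * ((x : Ω)⁻¹ * χ x)⁻¹ =
      (x : Ω)⁻¹ * (χ x * φ y * (χ x)⁻¹) * x := by group
    _ = (x : Ω)⁻¹ * φ y * x := by rw [e1]
    _ = (x : Ω)⁻¹ * ((x : Ω) * φ y * (x : Ω)⁻¹) * x := by rw [hxy]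
    _ = φ y := by group

/-- A map acting trivially on `C_S(T)` modulo `T` acts trivially on all of its source modulo `T`. -/
theorem inv_mul_apply_mem (hT : F.StronglyClosed T) {Q : Subgroup Ω} (hQT : Q ≤ T)
    {χ : ↥(Q ⊔ centralizerIn S T) →* Ω} (hχ : χ ∈ F.Hom (Q ⊔ centralizerIn S T))
    (hχC : ∀ x : ↥(Q ⊔ centralizerIn S T), (x : Ω) ∈ centralizerIn S T → (x : Ω)⁻¹ * χ x ∈ T)
    (w : ↥(Q ⊔ centralizerIn S T)) : (w : Ω)⁻¹ * χ w ∈ T := by
  obtain ⟨q, hq, c, hc, hqc⟩ := exists_mul_of_mem_sup (centralizer_le_normalizer hQT) w.2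
  let q' : ↥(Q ⊔ centralizerIn S T) := ⟨q, Subgroup.mem_sup_left hq⟩
  let c' : ↥(Q ⊔ centralizerIn S T) := ⟨c, Subgroup.mem_sup_right hc⟩
  rw [show w = q' * c' from Subtype.ext hqc.symm, map_mul]
  show (q * c)⁻¹ * (χ q' * χ c') ∈ T
  have h1 : q⁻¹ * χ q' ∈ T :=
    mul_mem (inv_mem (hQT hq)) (stronglyClosed_apply hT hχ (hQT hq))
  have h2 := FusionFactor.conj_mem_of_stronglyClosed hT (inv_mem hc.1) h1
  rw [inv_inv] at h2
  rw [show (q * c)⁻¹ * (χ q' * χ c') = c⁻¹ * (q⁻¹ * χ q') * c * (c⁻¹ * χ c') by group]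
  exact mul_mem h2 (hχC c' hc)

/-- The case of an automorphism of order prime to `p`. -/
theorem trivialExt_of_restrict_coprime [Finite S] [Fact p.Prime] (hS : IsPGroup p S)
    (hn : E.IsWeaklyNormalIn F p) {α : MulAut T} (hα : α ∈ E.autGroup T)
    (hαp : (orderOf α).Coprime p) {Q : Subgroup Ω} (hQ : E.IsCentric Q)
    {χ : ↥(Q ⊔ centralizerIn S T) →* Ω} (hχ : χ ∈ F.Hom (Q ⊔ centralizerIn S T))
    (hχQ : ∀ x : Q, χ (Subgroup.inclusion le_sup_left x) = (α ⟨x, hQ.1 x.2⟩ : Ω))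
    (hχC : ∀ x : ↥(Q ⊔ centralizerIn S T), (x : Ω) ∈ centralizerIn S T → (x : Ω)⁻¹ * χ x ∈ T) :
    TrivialExt F T α := by
  obtain ⟨hE, hF, hinv⟩ := hn
  have hT := hinv.2.1
  have hTS := hT.1
  have := finite_of_le hTS
  have hTr := (automized_receptive hS hF (isFullyNormalized_of_stronglyClosed hT)).2
  obtain ⟨a, ha, haT, haC⟩ := exists_ext_centralizer hTr
    ((mem_autGroup_iff hTS).2 (hinv.1 T ((mem_autGroup_iff le_rfl).1 hα)))
  have hαI := (mem_autGroup_iff le_rfl).1 hα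
  have hTC : T ⊔ centralizerIn S T ≤ S := sup_le hTS (centralizerIn_le S T)
  have := finite_of_le hTC
  have hWT : Q ⊔ centralizerIn S T ≤ T ⊔ centralizerIn S T := sup_le_sup_right hQ.1 _
  have hWS := hWT.trans hTC
  have := finite_of_le hWS
  let φ : Q →* Ω := restrictHom (T.subtype.comp α.toMonoidHom) hQ.1
  have hφE : φ ∈ E.Hom Q := restrict_mem hαI hQ.1
  have hφc := centralizerIn_le_of_centric
    (isCentric_of_isConj hQ (⟨φ, hφE, rfl⟩ : E.IsConj Q φ.range))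
  have hdisp := disp_mem_range hQ.1 (range_le hφE) hφc (φ := φ) hχQ hχC
  have haI := (mem_autGroup_iff hTC).1 ha
  let aW : ↥(Q ⊔ centralizerIn S T) →* Ω :=
    restrictHom ((T ⊔ centralizerIn S T).subtype.comp a.toMonoidHom) hWT
  have haW : aW ∈ F.Hom (Q ⊔ centralizerIn S T) := restrict_mem haI hWT
  have hle : ∀ x, aW x ∈ χ.range := by
    intro x
    have : Q ⊔ centralizerIn S T ≤ (χ.range.comap aW).map (Subgroup.subtype _) := by
      refine sup_le (fun q hq => ?_) (fun c hc => ?_)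
      · refine ⟨⟨q, Subgroup.mem_sup_left hq⟩, ⟨⟨q, Subgroup.mem_sup_left hq⟩, ?_⟩, rfl⟩
        exact (hχQ ⟨q, hq⟩).trans (haT ⟨q, hQ.1 hq⟩).symm
      · refine ⟨⟨c, Subgroup.mem_sup_right hc⟩, ?_, rfl⟩
        let c₁ : ↥(Q ⊔ centralizerIn S T) :=
          ⟨(a ⟨c, Subgroup.mem_sup_right hc⟩ : Ω), Subgroup.mem_sup_right (haC _ hc)⟩
        obtain ⟨q, hq⟩ := hdisp c₁ (haC _ hc)
        refine ⟨c₁ * (Subgroup.inclusion le_sup_left q)⁻¹, ?_⟩
        rw [map_mul, map_inv, hχQ q, show (α ⟨q, hQ.1 q.2⟩ : Ω) = φ q from rfl, hq, mul_inv_rev,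
          inv_inv, mul_inv_cancel_left]
        rfl
    obtain ⟨y, hy, hyx⟩ := this x.2
    obtain rfl : y = x := Subtype.ext hyx
    exact hy
  obtain ⟨ι, hι, hιv⟩ := F.inv_mem hχ
  have hcomp := F.comp_mem haW hι hle
  obtain ⟨δ, hδ, hδv⟩ := exists_iso hcomp (Q := Q ⊔ centralizerIn S T) (by
    refine Subgroup.eq_of_le_of_card_ge ?_
      (by rw [← imgHom_self, card_imgHom (F.injective_of_mem hcomp) le_rfl])
    rintro _ ⟨x, rfl⟩
    obtain ⟨y, hy⟩ := hle x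
    show ι ⟨aW x, _⟩ ∈ _
    rw [show (⟨aW x, hle x⟩ : χ.range) = ⟨χ y, y, rfl⟩ from Subtype.ext hy.symm, hιv y]
    exact y.2)
  have hδeq : ∀ x y, aW x = χ y → δ x = y := fun x y h => Subtype.ext <| by
    rw [hδv]
    show ι ⟨aW x, _⟩ = _
    rw [show (⟨aW x, hle x⟩ : χ.range) = ⟨χ y, y, rfl⟩ from Subtype.ext h, hιv y]
  have hfix : ∀ x : ↥(Q ⊔ centralizerIn S T), (x : Ω) ∈ Q → δ x = x := fun x hx =>
    hδeq x x ((haT ⟨x, hQ.1 hx⟩).trans (hχQ ⟨x, hx⟩).symm)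
  have hcong : ∀ x, ((δ x : ↥(Q ⊔ centralizerIn S T)) : Ω)⁻¹ * aW x ∈ T := fun x => by
    obtain ⟨y, hy⟩ := hle x
    rw [hδeq x y hy.symm, ← hy]
    exact inv_mul_apply_mem hT hQ.1 hχ hχC y
  have haTm : ∀ (k : ℕ) (u : ↥(T ⊔ centralizerIn S T)), (u : Ω) ∈ T → ((a ^ k) u : Ω) ∈ T := by
    intro k u hu
    rw [← pow_agree le_sup_left (b := α) (a := a) (fun z => (haT z).symm) k ⟨u, hu⟩ |>.trans
      (congrArg (fun z => ((a ^ k) z : Ω)) (Subtype.ext rfl :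
        Subgroup.inclusion le_sup_left (⟨(u : Ω), hu⟩ : T) = u))]
    exact Subtype.mem _
  have hit : ∀ (k : ℕ) (x : ↥(Q ⊔ centralizerIn S T)),
      ((((δ : MulAut ↥(Q ⊔ centralizerIn S T)) ^ k) x : ↥(Q ⊔ centralizerIn S T)) : Ω)⁻¹ *
        ((a ^ k) (Subgroup.inclusion hWT x) : Ω) ∈ T := by
    intro k
    induction k with
    | zero =>
      intro x
      show (x : Ω)⁻¹ * (x : Ω) ∈ T
      rw [inv_mul_cancel]; exact one_mem _
    | succ k ih =>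
      intro x
      let t : ↥(T ⊔ centralizerIn S T) := (Subgroup.inclusion hWT (δ x))⁻¹ * a (Subgroup.inclusion hWT x)
      have ht : (t : Ω) ∈ T := hcong x
      rw [pow_succ, pow_succ, MulAut.mul_apply, MulAut.mul_apply,
        show a (Subgroup.inclusion hWT x) = Subgroup.inclusion hWT (δ x) * t from
          (mul_inv_cancel_left _ _).symm, map_mul, Subgroup.coe_mul, ← mul_assoc]
      exact mul_mem (ih (δ x)) (haTm k t ht)
  obtain ⟨j, b, hb, hbfix, hbv⟩ := exists_fix_ext hS hF hinv hQ hδ.mem_autGroup hfix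
  have hgood : TrivialExt F T (α ^ p ^ j) := by
    have hbfix' : ∀ x : ↥(T ⊔ centralizerIn S T), (x : Ω) ∈ T → b⁻¹ x = x := fun x hx => by
      conv_lhs => rw [← hbfix x hx]
      exact MulAut.inv_apply_self ..
    have h1 : ∀ x : T, ((b⁻¹ * a ^ p ^ j) (Subgroup.inclusion le_sup_left x) : Ω) =
        ((α ^ p ^ j) x : Ω) := fun x => by
      have e := pow_agree le_sup_left (b := α) (a := a) (fun z => (haT z).symm) (p ^ j) x
      rw [MulAut.mul_apply, hbfix' _ (e ▸ Subtype.mem _), e]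
    refine ⟨b⁻¹ * a ^ p ^ j, mul_mem (inv_mem hb) (pow_mem ha _), h1, fun c hc => ?_⟩
    let c₀ : ↥(Q ⊔ centralizerIn S T) := ⟨c, Subgroup.mem_sup_right hc⟩
    have hbc : (b c : Ω) = (((δ : MulAut ↥(Q ⊔ centralizerIn S T)) ^ p ^ j) c₀ : Ω) := hbv c₀ c.2
    let t : ↥(T ⊔ centralizerIn S T) := (b c)⁻¹ * (a ^ p ^ j) c
    have ht : (t : Ω) ∈ T := by
      show (b c : Ω)⁻¹ * ((a ^ p ^ j) c : Ω) ∈ T
      rw [hbc]
      exact hit _ c₀
    have hval : ((b⁻¹ * a ^ p ^ j) c : Ω) = c * t := by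
      rw [MulAut.mul_apply, show (a ^ p ^ j) c = b c * t from (mul_inv_cancel_left _ _).symm,
        map_mul, MulAut.inv_apply_self, hbfix' t ht]
      rfl
    have hcent : ((b⁻¹ * a ^ p ^ j) c : Ω) ∈ Subgroup.centralizer (T : Set Ω) := by
      refine Subgroup.mem_centralizer_iff.2 fun y hy => ?_
      obtain ⟨x, hx⟩ := (α ^ p ^ j).surjective ⟨y, hy⟩
      rw [← show ((α ^ p ^ j) x : Ω) = y from congrArg Subtype.val hx, ← h1, ← Subgroup.coe_mul,
        ← Subgroup.coe_mul, ← map_mul, ← map_mul]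
      exact congrArg (fun v => ((b⁻¹ * a ^ p ^ j) v : Ω))
        (Subtype.ext (Subgroup.mem_centralizer_iff.1 hc.2 x x.2))
    refine ⟨?_, mul_mem (Subgroup.inv_mem _ hc.2) hcent⟩
    rw [hval, inv_mul_cancel_left]
    exact ht
  obtain ⟨r, hr⟩ := exists_pow_eq_self_of_coprime (n := p ^ j) (x := α) (hαp.pow_right j).symm
  rw [← hr]
  exact hgood.pow hTS r

/-- An automorphism of `T` in a weakly normal subsystem whose restriction to a centric subgroup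
extends trivially to `C_S(T)` extends trivially. -/
theorem trivialExt_of_restrict [Finite S] [Fact p.Prime] (hS : IsPGroup p S)
    (hn : E.IsWeaklyNormalIn F p) {α : MulAut T} (hα : α ∈ E.autGroup T)
    {Q : Subgroup Ω} (hQ : E.IsCentric Q) {χ : ↥(Q ⊔ centralizerIn S T) →* Ω}
    (hχ : χ ∈ F.Hom (Q ⊔ centralizerIn S T))
    (hχQ : ∀ x : Q, χ (Subgroup.inclusion le_sup_left x) = (α ⟨x, hQ.1 x.2⟩ : Ω))
    (hχC : ∀ x : ↥(Q ⊔ centralizerIn S T), (x : Ω) ∈ centralizerIn S T → (x : Ω)⁻¹ * χ x ∈ T) :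
    TrivialExt F T α := by
  have hT := hn.2.2.2.1
  have hTS := hT.1
  have := finite_of_le hTS
  have : Finite (MulAut T) := Finite.of_injective (fun f : MulAut T => (f : T → T))
    DFunLike.coe_injective
  obtain ⟨a₁, a₂, ha₁, ha₂, ⟨k, hk⟩, ha₂p, h12⟩ := LocalStructure.exists_pPart_mul (p := p) α
  have ha₁E : a₁ ∈ E.autGroup T := Subgroup.zpowers_le.2 hα ha₁
  have ha₂E : a₂ ∈ E.autGroup T := Subgroup.zpowers_le.2 hα ha₂
  obtain ⟨γ, -, hγc⟩ := exists_conj_autInducedBy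
    (automized_receptive (hS.to_le hTS) hn.1 (isFullyNormalized_self (F := E))).1
    (X := Subgroup.zpowers a₁) (Subgroup.zpowers_le.2 ha₁E)
    (isPGroup_zpowers_of_pow_eq_one (k := k) (by rw [← hk, pow_orderOf_eq_one]))
  have hinn : a₁ ∈ autInducedBy T T := by
    rw [← Inn_eq]
    have h := hγc _ (Subgroup.mem_zpowers a₁)
    rw [← Inn_eq] at h
    have := (Inn_normal T).conj_mem _ h γ⁻¹
    rwa [show γ⁻¹ * (γ * a₁ * γ⁻¹) * γ⁻¹⁻¹ = a₁ by group] at this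
  obtain ⟨t, ht, htN, htv⟩ := mem_autInducedBy_iff.1 hinn
  have ha₁ext : TrivialExt F T a₁ := by
    rw [show a₁ = T.normalizerMonoidHom ⟨t, htN⟩ from MulEquiv.ext fun x => Subtype.ext (htv x)]
    exact trivialExt_conj_of_mem hT le_rfl inf_le_left ht htN
  rw [← h12]
  refine ha₁ext.mul hTS ?_
  let χ' : ↥(Q ⊔ centralizerIn S T) →* Ω := (MulAut.conj t⁻¹).toMonoidHom.comp χ
  have hχ' : χ' ∈ F.Hom (Q ⊔ centralizerIn S T) :=
    mem_of_comp hχ (F.conj_mem le_rfl (inv_mem (hTS ht))) (apply_mem hχ) fun x => rfl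
  refine trivialExt_of_restrict_coprime hS hn ha₂E ha₂p hQ hχ' (fun x => ?_) fun x hx => ?_
  · show t⁻¹ * χ _ * t⁻¹⁻¹ = _
    rw [hχQ x, ← h12, MulAut.mul_apply, htv]
    group
  · show (x : Ω)⁻¹ * (t⁻¹ * χ x * t⁻¹⁻¹) ∈ T
    rw [inv_inv, show (x : Ω)⁻¹ * (t⁻¹ * χ x * t) =
      ((x : Ω)⁻¹ * t⁻¹ * (x : Ω)) * ((x : Ω)⁻¹ * χ x) * t by group]
    refine mul_mem (mul_mem ?_ (hχC x hx)) ht
    have := FusionFactor.conj_mem_of_stronglyClosed hT (inv_mem hx.1) (inv_mem ht)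
    rwa [inv_inv] at this

end CfsgLib.FusionLayer
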