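/-
Transport of a subsystem by an automorphism of its underlying subgroup; the `p'`-residual of an
invariant subsystem is invariant.
-/
import Cfsg.Agent.Fusion.CentralizerSubsystem
import Cfsg.Agent.Fusion.NormalLeast

set_option autoImplicit false

namespace CfsgLib.FusionLayer

open Cfsg Cfsg.FusionSystem CfsgLib.Fusion
open CfsgLib.PPowerIndexNormal (img transport)
open CfsgLib.PrimeToPIndex (pGen)

variable {Ω : Type*} [Group Ω] {S T : Subgroup Ω} {F : FusionSystem S} {E D : FusionSystem T}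
  {p : ℕ}

theorem img_le_top (α : MulAut T) (P : Subgroup Ω) : img α P ≤ T := by
  rintro _ ⟨x, -, rfl⟩
  exact (α x).2

theorem img_img_inv (α : MulAut T) {P : Subgroup Ω} (hP : P ≤ T) : img α⁻¹ (img α P) = P := by
  ext y
  constructor
  · rintro ⟨z, ⟨x, hx, hxz⟩, rfl⟩
    show ((α⁻¹ z : T) : Ω) ∈ P
    rw [show z = α x from Subtype.ext hxz.symm, MulAut.inv_apply_self]
    exact hx
  · intro hy
    refine ⟨α ⟨y, hP hy⟩, ⟨⟨y, hP hy⟩, hy, rfl⟩, ?_⟩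
    show ((α⁻¹ (α ⟨y, hP hy⟩) : T) : Ω) = y
    rw [MulAut.inv_apply_self]

/-- A homomorphism on `img α P` with values in `T`, read on `P`. -/
def pullHom (α : MulAut T) {P : Subgroup Ω} (hP : P ≤ T) (ω : img α P →* Ω)
    (hω : ∀ y, ω y ∈ T) : P →* Ω :=
  T.subtype.comp (α⁻¹ : MulAut T).toMonoidHom |>.comp <| (ω.codRestrict T hω).comp
    (((T.subtype.comp α.toMonoidHom).comp (Subgroup.inclusion hP)).codRestrict (img α P)
      fun x => ⟨⟨x, hP x.2⟩, x.2, rfl⟩)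

theorem pullHom_apply (α : MulAut T) {P : Subgroup Ω} (hP : P ≤ T) (ω : img α P →* Ω)
    (hω : ∀ y, ω y ∈ T) (x : P) :
    pullHom α hP ω hω x =
      ((α⁻¹ ⟨ω ⟨(α ⟨x, hP x.2⟩ : Ω), ⟨x, hP x.2⟩, x.2, rfl⟩, hω _⟩ : T) : Ω) := rfl

theorem pullHom_mem (α : MulAut T) {P : Subgroup Ω} (hP : P ≤ T) {ω : img α P →* Ω}
    (hω : ω ∈ D.Hom (img α P)) :
    pullHom α hP ω (apply_mem hω) ∈ (transport D α).Hom P := by
  refine ⟨hP, fun x => by rw [pullHom_apply]; exact Subtype.mem _, ω, hω, fun x h => ?_⟩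
  have e : (⟨pullHom α hP ω (apply_mem hω) x, by rw [pullHom_apply]; exact Subtype.mem _⟩ : T) =
      α⁻¹ ⟨ω ⟨_, h⟩, apply_mem hω _⟩ := Subtype.ext rfl
  rw [e, MulAut.apply_inv_self]

theorem range_pullHom (α : MulAut T) {P : Subgroup Ω} (hP : P ≤ T) (ω : img α P →* Ω)
    (hω : ∀ y, ω y ∈ T) : (pullHom α hP ω hω).range = img α⁻¹ ω.range := by
  ext y
  constructor
  · rintro ⟨x, rfl⟩
    exact ⟨⟨_, hω ⟨(α ⟨x, hP x.2⟩ : Ω), ⟨x, hP x.2⟩, x.2, rfl⟩⟩, ⟨_, rfl⟩, rfl⟩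
  · rintro ⟨z, ⟨⟨_, x, hx, rfl⟩, hwz⟩, rfl⟩
    refine ⟨⟨x, hx⟩, ?_⟩
    rw [pullHom_apply]
    exact congrArg (fun w : T => ((α⁻¹ w : T) : Ω)) (Subtype.ext hwz)

theorem card_normalizerIn_img_le [Finite T] (α : MulAut T) (R : Subgroup Ω) :
    Nat.card (normalizerIn T R) ≤ Nat.card (normalizerIn T (img α R)) := by
  have := finite_of_le (img_le_top α R)
  have := finite_of_le (normalizerIn_le T (img α R))
  refine Nat.card_le_card_of_injective (fun n : normalizerIn T R =>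
    (⟨(α ⟨n, n.2.1⟩ : Ω), Subtype.mem _, ?_⟩ : normalizerIn T (img α R))) fun a b h => ?_
  · refine CfsgLib.SatCriterion.mem_normalizer_of_finite ?_
    rintro _ ⟨x, hx, rfl⟩
    refine ⟨⟨n, n.2.1⟩ * x * ⟨n, n.2.1⟩⁻¹, (Subgroup.mem_normalizer_iff.1 n.2.2 _).1 hx, ?_⟩
    simp
  · have h1 := α.injective (Subtype.ext (congrArg Subtype.val h :) :
      α ⟨a, a.2.1⟩ = α ⟨b, b.2.1⟩)
    exact Subtype.ext (congrArg Subtype.val h1 :)

theorem isFullyNormalized_img [Finite T] (α : MulAut T) {Q : Subgroup Ω}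
    (hQ : (transport D α).IsFullyNormalized Q) : D.IsFullyNormalized (img α Q) := by
  refine ⟨img_le_top α Q, fun R hR => ?_⟩
  obtain ⟨ω, hω, rfl⟩ := hR
  have h1 := hQ.2 _ ⟨_, pullHom_mem α hQ.1 hω, range_pullHom α hQ.1 ω _⟩
  exact ((card_normalizerIn_img_le α⁻¹ ω.range).trans h1).trans
    (card_normalizerIn_img_le α Q)

theorem transport_isSubsystemOf (hinv : AutInvariant E F) {α : MulAut T}
    (hα : α ∈ F.autGroup T) (hDE : D.IsSubsystemOf E) : (transport D α).IsSubsystemOf E := by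
  rintro P φ ⟨hP, hv, χ, hχ, hχv⟩
  obtain ⟨χ', hχ', hχ'v⟩ := exists_conj_hom hinv (hDE _ hχ) (inv_mem hα) (R := P) fun y hy =>
    ⟨⟨(α ⟨y, hP hy⟩ : Ω), ⟨y, hP hy⟩, hy, rfl⟩, by
      show ((α⁻¹ (α ⟨y, hP hy⟩) : T) : Ω) = y
      rw [MulAut.inv_apply_self]⟩
  refine mem_congr hχ' fun x => ?_
  have hm : (α ⟨x, hP x.2⟩ : Ω) ∈ img α P := ⟨⟨x, hP x.2⟩, x.2, rfl⟩
  have e : ((α⁻¹ ⟨(α ⟨x, hP x.2⟩ : Ω), (α ⟨x, hP x.2⟩).2⟩ : T) : Ω) = x := by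
    show ((α⁻¹ (α ⟨x, hP x.2⟩) : T) : Ω) = x
    rw [MulAut.inv_apply_self]
  have h := hχ'v ⟨_, hm⟩ (e.symm ▸ x.2)
  refine Eq.trans ?_ ((congrArg χ' (Subtype.ext e.symm)).trans h).symm
  have e2 : (⟨χ ⟨_, hm⟩, apply_mem (hDE _ hχ) _⟩ : T) = α ⟨φ x, hv x⟩ := Subtype.ext (hχv x hm)
  rw [e2, MulAut.inv_apply_self]

/-- Transport preserves saturation inside an invariant system. -/
theorem transport_isSaturated [Finite T] [Fact p.Prime] (hT : IsPGroup p T) (hE : E.IsSaturated p)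
    (hinv : AutInvariant E F) (hD : D.IsSaturated p) (hDE : D.IsSubsystemOf E) {α : MulAut T}
    (hα : α ∈ F.autGroup T) : (transport D α).IsSaturated p := by
  have hsub := transport_isSubsystemOf hinv hα hDE
  refine isSaturated_of_receptive hT ⟨le_rfl, ?_⟩ fun Q hQ => ⟨hQ.1, fun R θ hθ hθr => ?_⟩
  · exact IsSylowIn.mono (H := E.autGroup T)
      (automized_receptive hT hE (isFullyNormalized_self (F := E))).1.2
      (autInducedBy_le_autGroup le_rfl)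
      fun β hβ => (mem_autGroup_iff le_rfl).2 (hsub _ ((mem_autGroup_iff le_rfl).1 hβ))
  obtain ⟨hR, hv, χ, hχ, hχv⟩ := id hθ
  have hχr : χ.range = img α Q := by
    ext y
    constructor
    · rintro ⟨⟨_, x, hx, rfl⟩, rfl⟩
      refine ⟨⟨θ ⟨x, hx⟩, hv _⟩, ?_, (hχv ⟨x, hx⟩ _).symm⟩
      exact hθr ▸ (⟨⟨x, hx⟩, rfl⟩ : θ ⟨x, hx⟩ ∈ θ.range)
    · rintro ⟨z, hz, rfl⟩
      obtain ⟨x, hx⟩ : (z : Ω) ∈ θ.range := hθr.ge hz
      refine ⟨⟨_, ⟨x, hR x.2⟩, x.2, rfl⟩, (hχv x _).trans ?_⟩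
      exact congrArg (fun w : T => (α w : Ω)) (Subtype.ext hx)
  obtain ⟨ω, hω, hωv⟩ :=
    (automized_receptive hT hD (isFullyNormalized_img α hQ)).2.2 _ χ hχ hχr
  have hN : extender T R θ ≤ T := (extender_le_normalizerIn θ).trans (normalizerIn_le T R)
  have hle : img α (extender T R θ) ≤ extender T (img α R) χ := by
    rintro _ ⟨g, hg, rfl⟩
    obtain ⟨-, hgN, h, hh, hgv⟩ := mem_extender_iff.1 hg
    have := finite_of_le (img_le_top α R)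
    refine mem_extender_iff.2 ⟨(α g).2, ?_, (α ⟨h, hh⟩ : Ω), Subtype.mem _, ?_⟩
    · refine CfsgLib.SatCriterion.mem_normalizer_of_finite ?_
      rintro _ ⟨x, hx, rfl⟩
      refine ⟨g * x * g⁻¹, (Subgroup.mem_normalizer_iff.1 hgN _).1 hx, ?_⟩
      simp
    · rintro ⟨_, x, hx, rfl⟩ hgx
      have hgx' : (g : Ω) * x * (g : Ω)⁻¹ ∈ R := (Subgroup.mem_normalizer_iff.1 hgN _).1 hx
      have hm : (α (g * x * g⁻¹) : Ω) ∈ img α R := ⟨g * x * g⁻¹, hgx', rfl⟩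
      have e1 : χ ⟨_, hgx⟩ = χ ⟨_, hm⟩ := congrArg χ (Subtype.ext (by simp))
      have e2 : χ ⟨(α (g * x * g⁻¹) : Ω), hm⟩ = (α ⟨θ ⟨_, hgx'⟩, hv _⟩ : Ω) :=
        hχv ⟨_, hgx'⟩ hm
      have hm' : (α x : Ω) ∈ img α R := ⟨x, hx, rfl⟩
      have e3 : χ ⟨(α x : Ω), hm'⟩ = (α ⟨θ ⟨x, hx⟩, hv _⟩ : Ω) := hχv ⟨x, hx⟩ hm'
      show χ ⟨_, hgx⟩ = (α ⟨h, hh⟩ : Ω) * χ ⟨(α x : Ω), hm'⟩ * (α ⟨h, hh⟩ : Ω)⁻¹
      rw [e1, e2, e3,
        show (⟨θ ⟨_, hgx'⟩, hv _⟩ : T) = ⟨h, hh⟩ * ⟨θ ⟨x, hx⟩, hv _⟩ * (⟨h, hh⟩ : T)⁻¹ from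
          Subtype.ext (hgv ⟨x, hx⟩ hgx'), map_mul, map_mul, map_inv]
      rfl
  refine ⟨_, pullHom_mem α hN (restrict_mem hω hle), fun x hx hxN => ?_⟩
  rw [pullHom_apply]
  have hm : (α ⟨x, hR hx⟩ : Ω) ∈ img α R := ⟨⟨x, hR hx⟩, hx, rfl⟩
  have hωx := hωv _ hm (hle ⟨⟨x, hR hx⟩, hxN, rfl⟩)
  have e2 : (⟨ω ⟨(α ⟨x, hR hx⟩ : Ω), hle ⟨⟨x, hR hx⟩, hxN, rfl⟩⟩, apply_mem hω _⟩ : T) =
      α ⟨θ ⟨x, hx⟩, hv _⟩ := Subtype.ext (hωx.trans (hχv ⟨x, hx⟩ hm))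
  show ((α⁻¹ ⟨ω ⟨(α ⟨x, hR hx⟩ : Ω), hle ⟨⟨x, hR hx⟩, hxN, rfl⟩⟩, apply_mem hω _⟩ : T) : Ω) = _
  rw [e2, MulAut.inv_apply_self]

theorem transport_hasPrimeToPIndexIn (hEi : E.IsInvariantIn F)
    (hD : D.HasPrimeToPIndexIn E p) {α : MulAut T} (hα : α ∈ F.autGroup T) :
    (transport D α).HasPrimeToPIndexIn E p := by
  refine ⟨transport_isSubsystemOf hEi.2.2.1 hα hD.1, fun P hP => ?_⟩
  rw [MonoidHom.map_closure, Subgroup.closure_le]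
  rintro _ ⟨a, ⟨k, hk⟩, rfl⟩
  obtain ⟨e, he, hev⟩ : ∃ e : P ≃* img α P, IsIso F e ∧
      ∀ x : P, (e x : Ω) = (α ⟨x, hP x.2⟩ : Ω) :=
    exists_iso_restrict ((mem_autGroup_iff hEi.2.1.1).1 hα) hP
  have ha : MulAut.congr e (a : MulAut P) ∈ E.autGroup (img α P) :=
    congr_mem_of_invariant (strongInvariant_of_invariant hEi) hP (img_le_top α P) he a.2
  have ha' : MulAut.congr e (a : MulAut P) ∈ D.autGroup (img α P) :=
    hD.2 _ (img_le_top α P) ⟨⟨_, ha⟩, Subgroup.subset_closure ⟨k, by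
      rw [← hk, ← Subgroup.orderOf_coe a, ← Subgroup.orderOf_coe]
      exact (MulAut.congr e).orderOf_eq _⟩, rfl⟩
  refine IsIso.mem_autGroup (show IsIso (transport D α) (a : MulAut P) from ?_)
  refine ⟨hP, fun x => hP ((a : MulAut P) x).2, _, (mem_autGroup_iff (img_le_top α P)).1 ha',
    fun x hx => ?_⟩
  show (MulAut.congr e (a : MulAut P) ⟨_, hx⟩ : Ω) = _
  rw [show (⟨(α ⟨x, hP x.2⟩ : Ω), hx⟩ : img α P) = e x from Subtype.ext (hev x).symm, congr_apply,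
    hev]
  rfl

/-- The `p'`-residual of an invariant subsystem is invariant. -/
theorem autInvariant_of_isPPrimeResidual [Finite T] [Fact p.Prime] (hT : IsPGroup p T)
    (hE : E.IsSaturated p) (hEi : E.IsInvariantIn F) (hD : E.IsPPrimeResidual p D) :
    AutInvariant D F := by
  intro P hPT φ hφ α hα
  obtain ⟨_, hv, χ, hχ, hχv⟩ := hD.2.2 _ (transport_isSaturated hT hE hEi.2.2.1 hD.1 hD.2.1.1 hα)
    (transport_hasPrimeToPIndexIn hEi hD.2.1 hα) P hφ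
  exact ⟨χ, hχ, fun x hφx hαx => hχv x hαx⟩

/-- The Frattini condition passes to a subsystem of index prime to `p`. -/
theorem frattini_of_hasPrimeToPIndexIn [Finite T] [Fact p.Prime] (hT : IsPGroup p T)
    (hE : E.IsSaturated p) (hEi : E.IsInvariantIn F) (hD : D.HasPrimeToPIndexIn E p)
    {P : Subgroup Ω} (hP : P ≤ T) {φ : P →* Ω} (hφ : φ ∈ F.Hom P) :
    ∃ α ∈ F.autGroup T, ∃ φ₀ ∈ D.Hom P,
      ∀ (x : P) (hx : φ₀ x ∈ T), φ x = ((α ⟨φ₀ x, hx⟩ : T) : Ω) := by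
  obtain ⟨-, hdec, -⟩ :=
    CfsgLib.PrimeToPIndex.main hT hE hD.1 fun Q hQ => hD.2 Q hQ.1
  obtain ⟨a, ha, e, he, hev⟩ := hEi.2.2.2 P hP φ hφ
  obtain ⟨b, hb, d, hd, hdv⟩ := hdec P e he
  have hbF : b ∈ F.autGroup T :=
    (mem_autGroup_iff hEi.2.1.1).2 (hEi.1 T ((mem_autGroup_iff le_rfl).1 hb))
  refine ⟨a * b, mul_mem ha hbF, d, hd, fun x hx => ?_⟩
  rw [hev x (apply_mem he x), MulAut.mul_apply]
  exact congrArg (fun w : T => (a w : Ω)) (Subtype.ext (hdv x hx))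

end CfsgLib.FusionLayer
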