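/-
The `p'`-residual of a weakly normal subsystem is normal.
-/
import Cfsg.Agent.FusionLayer.Residual.Transport
import Cfsg.Agent.FusionLayer.Residual.Restrict

set_option autoImplicit false

namespace CfsgLib.FusionLayer

open Cfsg Cfsg.FusionSystem CfsgLib.Fusion
open CfsgLib.PrimeToPIndex (pGen)
open CfsgLib.PPrimeResidual (infSystem)

variable {Ω : Type*} [Group Ω] {S T : Subgroup Ω} {F : FusionSystem S} {E : FusionSystem T}
  {p : ℕ}

/-- `φ` extends to `P C_S(T)` acting trivially on `C_S(T)` modulo `T`. -/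
def HasTrivExt (F : FusionSystem S) (T : Subgroup Ω) {P : Subgroup Ω} (φ : P →* Ω) : Prop :=
  ∃ χ ∈ F.Hom (P ⊔ centralizerIn S T),
    (∀ x : P, χ (Subgroup.inclusion le_sup_left x) = φ x) ∧
    ∀ x : ↥(P ⊔ centralizerIn S T), (x : Ω) ∈ centralizerIn S T → (x : Ω)⁻¹ * χ x ∈ T

theorem hasTrivExt_conj (hTS : T ≤ S) {P : Subgroup Ω} {g : Ω} (hP : P ≤ T) (hg : g ∈ T) :
    HasTrivExt F T (conjHom P g) := by
  refine ⟨_, F.conj_mem (sup_le (hP.trans hTS) (centralizerIn_le S T)) (hTS hg), fun x => rfl,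
    fun x hx => ?_⟩
  show (x : Ω)⁻¹ * (g * x * g⁻¹) ∈ T
  rw [show g * (x : Ω) = (x : Ω) * g from Subgroup.mem_centralizer_iff.1 hx.2 g hg,
    mul_inv_cancel_right, inv_mul_cancel]
  exact one_mem _

theorem HasTrivExt.comp {P Q : Subgroup Ω} (hP : P ≤ T) {φ : P →* Ω} {ψ : Q →* Ω}
    (hφT : φ.range ≤ T) (hc : centralizerIn T φ.range ≤ φ.range) (hψT : ∀ x : Q, ψ x ∈ T)
    (hφ : HasTrivExt F T φ) (hψ : HasTrivExt F T ψ) (h : ∀ x : P, φ x ∈ Q) :
    HasTrivExt F T (ψ.comp (φ.codRestrict Q h)) := by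
  obtain ⟨χ, hχ, hχv, hχC⟩ := hφ
  obtain ⟨ω, hω, hωv, hωC⟩ := hψ
  have hdisp := disp_mem_range hP hφT hc hχv hχC
  have hmem : ∀ x, χ x ∈ Q ⊔ centralizerIn S T := by
    intro x
    have : P ⊔ centralizerIn S T ≤
        ((Q ⊔ centralizerIn S T).comap χ).map (Subgroup.subtype _) := by
      refine sup_le (fun y hy => ⟨⟨y, Subgroup.mem_sup_left hy⟩, ?_, rfl⟩)
        fun c hc' => ⟨⟨c, Subgroup.mem_sup_right hc'⟩, ?_, rfl⟩
      · refine Subgroup.mem_comap.2 ?_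
        rw [show (⟨y, Subgroup.mem_sup_left hy⟩ : ↥(P ⊔ centralizerIn S T)) =
          Subgroup.inclusion le_sup_left ⟨y, hy⟩ from rfl, hχv]
        exact Subgroup.mem_sup_left (h _)
      · obtain ⟨y, hy⟩ := hdisp ⟨c, Subgroup.mem_sup_right hc'⟩ hc'
        refine Subgroup.mem_comap.2 ?_
        rw [← mul_inv_cancel_left c (χ ⟨c, Subgroup.mem_sup_right hc'⟩), ← hy]
        exact mul_mem (Subgroup.mem_sup_right hc') (Subgroup.mem_sup_left (h y))
    obtain ⟨y, hy, hyx⟩ := this x.2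
    obtain rfl : y = x := Subtype.ext hyx
    exact hy
  refine ⟨_, F.comp_mem hχ hω hmem, fun x => ?_, fun x hx => ?_⟩
  · show ω ⟨χ _, _⟩ = ψ ⟨φ x, _⟩
    rw [← hωv]
    exact congrArg ω (Subtype.ext (hχv x))
  · show (x : Ω)⁻¹ * ω ⟨χ x, _⟩ ∈ T
    obtain ⟨y, hy⟩ := hdisp x hx
    rw [show (⟨χ x, hmem x⟩ : ↥(Q ⊔ centralizerIn S T)) =
      ⟨x, Subgroup.mem_sup_right hx⟩ * Subgroup.inclusion le_sup_left ⟨φ y, h y⟩ from
        Subtype.ext (by show χ x = (x : Ω) * φ y; rw [hy, mul_inv_cancel_left]), map_mul,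
      hωv, ← mul_assoc]
    exact mul_mem (hωC ⟨x, Subgroup.mem_sup_right hx⟩ hx) (hψT _)

theorem HasTrivExt.inv {P : Subgroup Ω} (hP : P ≤ T) {φ : P →* Ω}
    (hφT : φ.range ≤ T) (hc : centralizerIn T φ.range ≤ φ.range) (hφ : HasTrivExt F T φ)
    {ψ : φ.range →* Ω} (hψ : ∀ x : P, ψ ⟨φ x, x, rfl⟩ = x) : HasTrivExt F T ψ := by
  obtain ⟨χ, hχ, hχv, hχC⟩ := hφ
  have hdisp := disp_mem_range hP hφT hc hχv hχC
  obtain ⟨ι, hι, hιv⟩ := F.inv_mem hχ
  have hle : φ.range ⊔ centralizerIn S T ≤ χ.range := by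
    refine sup_le ?_ fun c hc' => ?_
    · rintro _ ⟨x, rfl⟩
      exact ⟨_, hχv x⟩
    · obtain ⟨y, hy⟩ := hdisp ⟨c, Subgroup.mem_sup_right hc'⟩ hc'
      refine ⟨⟨c, Subgroup.mem_sup_right hc'⟩ * (Subgroup.inclusion le_sup_left y)⁻¹, ?_⟩
      rw [map_mul, map_inv, hχv, hy, mul_inv_rev, inv_inv, mul_inv_cancel_left]
  refine ⟨restrictHom ι hle, restrict_mem hι hle, ?_, fun z hz => ?_⟩
  · rintro ⟨_, x, rfl⟩
    rw [hψ]
    show ι ⟨φ x, _⟩ = (x : Ω)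
    exact (congrArg ι (Subtype.ext (hχv x).symm : (⟨φ x, _⟩ : χ.range) =
      ⟨χ (Subgroup.inclusion le_sup_left x), _, rfl⟩)).trans (hιv _)
  · let c : ↥(P ⊔ centralizerIn S T) := ⟨z, Subgroup.mem_sup_right hz⟩
    obtain ⟨y, hy⟩ := hdisp c hz
    have e : χ (c * (Subgroup.inclusion le_sup_left y)⁻¹) = (z : Ω) := by
      rw [map_mul, map_inv, hχv, hy, mul_inv_rev, inv_inv, mul_inv_cancel_left]
    have e' : restrictHom ι hle z = ((c * (Subgroup.inclusion le_sup_left y)⁻¹ :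
        ↥(P ⊔ centralizerIn S T)) : Ω) :=
      (congrArg ι (Subtype.ext e.symm)).trans (hιv _)
    rw [e']
    show (z : Ω)⁻¹ * ((z : Ω) * (y : Ω)⁻¹) ∈ T
    rw [inv_mul_cancel_left]
    exact inv_mem (hP y.2)

/-- The maps of `E` whose restrictions to centric sources extend trivially. -/
def trivExtSystem [Finite T] (F : FusionSystem S) (E : FusionSystem T) (hTS : T ≤ S) :
    FusionSystem T where
  Hom P := {φ | φ ∈ E.Hom P ∧ (E.IsCentric P → HasTrivExt F T φ)}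
  le_of_mem h := E.le_of_mem h.1
  injective_of_mem h := E.injective_of_mem h.1
  conj_mem hP hg := ⟨E.conj_mem hP hg, fun _ => hasTrivExt_conj hTS hP hg⟩
  comp_mem := by
    intro P Q φ ψ hφ hψ h
    refine ⟨E.comp_mem hφ.1 hψ.1 h, fun hP => ?_⟩
    have hr : E.IsCentric φ.range := isCentric_of_isConj hP ⟨φ, hφ.1, rfl⟩
    have hQ : E.IsCentric Q :=
      isCentric_of_le hr (by rintro _ ⟨x, rfl⟩; exact h x) (le_left hψ.1)
    exact (hφ.2 hP).comp hP.1 (range_le hφ.1) (centralizerIn_le_of_centric hr) (apply_mem hψ.1)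
      (hψ.2 hQ) h
  inv_mem := by
    intro P φ hφ
    obtain ⟨ψ, hψ, hψv⟩ := E.inv_mem hφ.1
    refine ⟨ψ, ⟨hψ, fun hr => ?_⟩, hψv⟩
    have hP : E.IsCentric P := isCentric_of_isConj hr (isConj_symm ⟨φ, hφ.1, rfl⟩)
    exact (hφ.2 hP).inv hP.1 (range_le hφ.1) (centralizerIn_le_of_centric hr) hψv

theorem hasTrivExt_of_trivialExt [Finite S] {P : Subgroup Ω} (hP : P ≤ T) (hTS : T ≤ S)
    {a : MulAut P} (h : TrivialExt F P a) : HasTrivExt F T (P.subtype.comp a.toMonoidHom) := by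
  obtain ⟨β, hβ, hβ1, hβ2⟩ := h
  have hW : P ⊔ centralizerIn S P ≤ S := sup_le (hP.trans hTS) (centralizerIn_le S P)
  have hle : P ⊔ centralizerIn S T ≤ P ⊔ centralizerIn S P :=
    sup_le_sup_left (centralizerIn_anti hP) P
  exact ⟨_, restrict_mem ((mem_autGroup_iff hW).1 hβ) hle, fun x => hβ1 x,
    fun x hx => hP (hβ2 (Subgroup.inclusion hle x) (centralizerIn_anti hP hx)).1⟩

/-- The `p'`-residual of a weakly normal subsystem satisfies the extension condition. -/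
theorem trivialExt_of_isPPrimeResidual [Finite S] [Fact p.Prime] (hS : IsPGroup p S)
    (hn : E.IsWeaklyNormalIn F p) {D : FusionSystem T} (hD : E.IsPPrimeResidual p D)
    {α : MulAut T} (hα : α ∈ D.autGroup T) : TrivialExt F T α := by
  obtain ⟨hE, hF, hinv⟩ := id hn
  have hTS := hinv.2.1.1
  have := finite_of_le hTS
  have hTp : IsPGroup p T := hS.to_le hTS
  let X := trivExtSystem F E hTS
  let G := infSystem X {Y | ∀ P : Subgroup Ω, E.IsCentric P → X.Hom P ⊆ Y.Hom P}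
  have hge : ∀ P : Subgroup Ω, E.IsCentric P → X.Hom P ⊆ G.Hom P := fun P hP φ h =>
    ⟨h, fun Y hY => hY P hP h⟩
  have hGX : ∀ P : Subgroup Ω, G.Hom P ⊆ X.Hom P := fun P φ h => h.1
  have hGE : G.IsSubsystemOf E := fun P φ h => h.1.1
  -- automorphisms of `T` in `G`
  have haut : ∀ β : MulAut T, β ∈ X.autGroup T → TrivialExt F T β := by
    intro β hβ
    obtain ⟨hβE, hβX⟩ := (mem_autGroup_iff le_rfl).1 hβ
    obtain ⟨χ, hχ, hχv, hχC⟩ := hβX isCentric_self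
    exact trivialExt_of_restrict hS hn ((mem_autGroup_iff le_rfl).2 hβE) isCentric_self hχ hχv hχC
  suffices hG : G.IsSaturated p ∧ G.HasPrimeToPIndexIn E p from
    haut α ((mem_autGroup_iff le_rfl).2
      (hGX T (hD.2.2 G hG.1 hG.2 T ((mem_autGroup_iff le_rfl).1 hα))))
  have hgen : ∀ P : Subgroup Ω, E.IsCentric P →
      (pGen p E P).map (E.autGroup P).subtype ≤ G.autGroup P := fun P hP β hβ =>
    IsIso.mem_autGroup (hge P hP ⟨(mem_autGroup_iff hP.1).1 (Subgroup.map_subtype_le _ hβ),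
      fun _ => hasTrivExt_of_trivialExt hP.1 hTS (trivialExt_of_pGen hS hn hP hβ)⟩)
  obtain ⟨hidx, hdec, hcen⟩ := CfsgLib.PrimeToPIndex.main hTp hE hGE hgen
  refine ⟨?_, hidx⟩
  refine CfsgLib.SatCriterion.isSaturated hTp {P | E.IsCentric P} (fun P hP Q hQ => ?_) ?_ ?_ ?_
  · obtain ⟨φ, hφ, hr⟩ := hQ
    exact isCentric_of_isConj hP ⟨φ, hGE P hφ, hr⟩
  swap
  · intro Y hY P φ h
    exact h.2 Y fun R hR => (hge R hR).trans (hY R hR)
  swap
  · exact fun P hP hnP => absurd ((hcen P).1 hP) hnP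
  intro P hP
  obtain ⟨Q, hPQ, hQ⟩ := exists_fullyNormalized (F := E) hP.1
  obtain ⟨φ, hφ, hr⟩ := id hPQ
  obtain ⟨a, ha, φ₀, hφ₀, hv⟩ := hdec P φ hφ
  have hφ₀E := hGE P hφ₀
  refine ⟨φ₀.range, ⟨φ₀, hφ₀, rfl⟩, ?_⟩
  have hQ₀c : E.IsCentric φ₀.range := isCentric_of_isConj hP ⟨φ₀, hφ₀E, rfl⟩
  have hQ₀ : E.IsFullyNormalized φ₀.range := by
    refine CfsgLib.PPrimeResidual.isFullyNormalized_aut hQ (α := a⁻¹)
      (isConj_trans (isConj_symm hPQ) ⟨φ₀, hφ₀E, rfl⟩) fun x hx => ?_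
    obtain ⟨y, hy⟩ : (x : Ω) ∈ φ.range := hr ▸ hx
    refine ⟨y, ?_⟩
    rw [show x = a ⟨φ₀ y, apply_mem hφ₀E y⟩ from
      Subtype.ext (hy.symm.trans (hv y (apply_mem hφ₀E y))), MulAut.inv_apply_self]
  have := finite_of_le hQ₀.1
  obtain ⟨hQa, hQr⟩ := automized_receptive hTp hE hQ₀
  refine ⟨⟨hQ₀.1, ?_⟩, hQ₀.1, fun R θ hθ hθr => ?_⟩
  · exact IsSylowIn.mono (H := E.autGroup φ₀.range) hQa.2 (autInducedBy_le_autGroup hQ₀.1)
      fun β hβ => (mem_autGroup_iff hQ₀.1).2 (hGE _ ((mem_autGroup_iff hQ₀.1).1 hβ))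
  · obtain ⟨ψ, hψ, hψv⟩ := hQr.2 R θ (hGE R hθ) hθr
    have hRc : E.IsCentric R := isCentric_of_isConj hQ₀c (isConj_symm ⟨θ, hGE R hθ, hθr⟩)
    have hRN : R ≤ extender T R θ := le_extender hRc.1 fun x => apply_mem hθ x
    have hNc : E.IsCentric (extender T R θ) := isCentric_of_le hRc hRN (le_left hψ)
    obtain ⟨b, hb, g, hg, hgv⟩ := hdec _ ψ hψ
    obtain ⟨f, hf, hfv⟩ := exists_iso_restrict hg hRN
    have hR' : E.IsCentric (imgHom g R) := isCentric_of_isConj hRc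
      (⟨_, hGE _ (restrict_mem hg hRN), range_restrictHom g hRN⟩ : E.IsConj R (imgHom g R))
    have hbres : restrictHom (T.subtype.comp b.toMonoidHom) hR'.1 ∈ G.Hom (imgHom g R) := by
      refine mem_congr (hf.symm.comp_hom hθ) fun y => ?_
      obtain ⟨x, rfl⟩ := f.surjective y
      show (b ⟨(f x : Ω), _⟩ : Ω) = θ (f.symm (f x))
      rw [f.symm_apply_apply]
      refine Eq.trans ?_ ((hgv ⟨x, hRN x.2⟩ (apply_mem hg _)).symm.trans (hψv x x.2 (hRN x.2)))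
      exact congrArg (fun w : T => (b w : Ω)) (Subtype.ext (hfv x))
    obtain ⟨χ, hχ, hχv, hχC⟩ := (hGX _ hbres).2 hR'
    have hbT := trivialExt_of_restrict hS hn hb hR' hχ hχv hχC
    have hbX : IsIso X b :=
      ⟨(mem_autGroup_iff le_rfl).1 hb, fun _ => hasTrivExt_of_trivialExt le_rfl hTS hbT⟩
    exact ⟨ψ, hge _ hNc (mem_of_comp (hGX _ hg) hbX (apply_mem hg) fun x => hgv x _), hψv⟩

/-- The `p'`-residual of a weakly normal subsystem is normal. -/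
theorem isNormalIn_of_isPPrimeResidual [Finite S] [Fact p.Prime] (hS : IsPGroup p S)
    (hn : E.IsWeaklyNormalIn F p) {D : FusionSystem T} (hD : E.IsPPrimeResidual p D) :
    D.IsNormalIn F p := by
  obtain ⟨hE, hF, hinv⟩ := id hn
  have hTS := hinv.2.1.1
  have := finite_of_le hTS
  exact ⟨⟨hD.1, hF, fun P φ h => hinv.1 P (hD.2.1.1 P h), hinv.2.1,
    autInvariant_of_isPPrimeResidual (hS.to_le hTS) hE hinv hD,
    fun P hP φ hφ => frattini_of_hasPrimeToPIndexIn (hS.to_le hTS) hE hinv hD.2.1 hP hφ⟩,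
    fun α hα => trivialExt_of_isPPrimeResidual hS hn hD hα⟩

end CfsgLib.FusionLayer
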